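import Mathlib
import Cfsg.Statements.S3140
import Cfsg.Agent.Lib.L33.Main
import Cfsg.Agent.Lib.L33.Red1
import Cfsg.Agent.Lib.GHE.Defs

/-! Standard subgroups `L₃(3)` (plans/L3S.md): definitions. -/

set_option autoImplicit false

namespace CfsgLib.L3S

open Subgroup Cfsg CfsgLib.Tech CfsgLib.L33

/-- the group `L₃(3)` -/
abbrev L33 : Type := Matrix.ProjectiveSpecialLinearGroup (Fin 3) (ZMod 3)

variable {G : Type*} [Group G]

/-- `G = X ⟨t⟩` with `X` normal and `X = O²(G)` -/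
structure Top (X : Subgroup G) (t : G) : Prop where
  nrm : X.Normal
  top : X ⊔ zpowers t = ⊤
  o2 : ∀ N : Subgroup G, N.index = 2 → X ≤ N

/-- the reduced situation -/
structure Sit (X L : Subgroup G) (t : G) : Prop where
  nrm : X.Normal
  simple : IsSimpleGroup X
  ncomm : ¬ IsMulCommutative X
  cent : centralizer (X : Set G) = ⊥
  ord : orderOf t = 2
  top : X ⊔ zpowers t = ⊤
  LX : L ≤ X
  iso : Nonempty (L ≃* L33)
  Lt : L ≤ centralizer {t}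
  Ln : ∀ h ∈ centralizer {t}, ∀ l ∈ L, h * l * h⁻¹ ∈ L
  cyc : ∀ P : Subgroup G, IsPGroup 2 P → P ≤ centralizer {t} → P ≤ centralizer (L : Set G) → IsCyclic P

/-- the frame `D` belongs to `L`; `O` is the core of `C(t)` -/
structure Lk (X L O : Subgroup G) (D : Fr G) : Prop extends Sit X L D.t where
  xL : D.x ∈ L
  eL : D.e ∈ L
  DL : D.L = L ⊔ O
  Oodd : Odd (Nat.card O)
  Ot : O ≤ centralizer {D.t}
  OL : O ≤ centralizer (L : Set G)
  On : ∀ h ∈ centralizer {D.t}, ∀ o ∈ O, h * o * h⁻¹ ∈ O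

/-- an element of order 3 of `C_L(z)` -/
structure Rh (L : Subgroup G) (D : Fr G) (ρ : G) : Prop where
  mem : ρ ∈ L
  cube : ρ ^ 3 = 1
  y : ρ * D.y * ρ⁻¹ = D.i
  i : ρ * D.i * ρ⁻¹ = D.y * D.i
  τy : D.τ = 1 ∨ ρ * (D.τ * D.y) = D.τ * D.y * ρ
  gen : L ⊓ centralizer {D.z} = closure {D.x, D.e, ρ}

/-- the 2-local information used to sieve the list of groups of sectional rank at most 4 -/
structure Bnd (X : Subgroup G) (D : Fr G) (a : G) : Prop where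
  low : 2 ^ 8 ∣ Nat.card G
  up : ¬ 2 ^ 9 ∣ Nat.card X ∨ (a * a = 1 ∧ ∃ T : Subgroup G, IsSylowIn 2 T ⊤ ∧ D.S ≤ T ∧ a ∈ T ∧
    ∀ g ∈ T, g * a * g⁻¹ = a ∨ g * a * g⁻¹ = a * D.z)

/-- the conclusion -/
def Concl (X : Type*) [Group X] : Prop :=
  GHE.IL 3 (· = 9) X ∨ GHE.IL 4 (· = 3) X ∨ GHE.IL 5 (· = 3) X ∨ Nonempty (X ≃* PSp 3 (ZMod 3))

end CfsgLib.L3S
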