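import Mathlib
import Cfsg.Agent.Lib.GHE.Defs
import Cfsg.Agent.Lib.GHA.Mat
import Cfsg.Agent.Lib.Unitary.Basic
import Cfsg.Agent.Lib.L33.Tool

/-! `L₅(q)`, `U₅(q)`, `q` odd: no four-group consists of 2-central involutions. -/

set_option autoImplicit false

namespace CfsgLib.L3S

open Subgroup Cfsg CfsgLib.Tech CfsgLib.L33 Matrix
open scoped MatrixGroups

namespace K5

variable {F : Type*} [Field F]

theorem rank_add (A B : Matrix (Fin 5) (Fin 5) F) : (A + B).rank ≤ A.rank + B.rank := by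
  unfold Matrix.rank
  rw [mulVecLin_add]
  exact (Submodule.finrank_mono (LinearMap.range_add_le _ _)).trans
    (Submodule.finrank_add_le_finrank_add_finrank _ _)

theorem off {M : Matrix (Fin 5) (Fin 5) F} (h2 : (2 : F) ≠ 0) {d : Fin 5 → F}
    (h : M * diagonal d = diagonal d * M) {i j : Fin 5} (hi : d i = 1) (hj : d j = -1) :
    M i j = 0 ∧ M j i = 0 := by
  have e1 := congrFun (congrFun h i) j
  have e2 := congrFun (congrFun h j) i
  rw [mul_diagonal, diagonal_mul, hi, hj] at e1 e2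
  exact ⟨(mul_eq_zero.1 (show 2 * M i j = 0 by linear_combination -e1)).resolve_left h2,
    (mul_eq_zero.1 (show 2 * M j i = 0 by linear_combination e2)).resolve_left h2⟩

def d1 : Fin 5 → ℤ := ![-1, -1, 1, 1, 1]
def d2 : Fin 5 → ℤ := ![1, -1, -1, 1, 1]
def d3 : Fin 5 → ℤ := ![1, 1, -1, -1, 1]
def c4 : Matrix (Fin 5) (Fin 5) ℤ := !![0,0,0,1,0; 1,0,0,0,0; 0,1,0,0,0; 0,0,1,0,0; 0,0,0,0,-1]
def c5 : Matrix (Fin 5) (Fin 5) ℤ := !![0,0,0,0,1; 1,0,0,0,0; 0,1,0,0,0; 0,0,1,0,0; 0,0,0,1,0]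

/-- reduction of an integer matrix -/
abbrev rd (F : Type*) [Field F] (N : Matrix (Fin 5) (Fin 5) ℤ) : Matrix (Fin 5) (Fin 5) F :=
  N.map (Int.cast : ℤ → F)

theorem rd_diag (d : Fin 5 → ℤ) : rd F (diagonal d) = diagonal fun i => (d i : F) :=
  diagonal_map (by simp)

theorem diag_of {M : Matrix (Fin 5) (Fin 5) F} (h2 : (2 : F) ≠ 0)
    (a1 : M * rd F (diagonal d1) = rd F (diagonal d1) * M)
    (a2 : M * rd F (diagonal d2) = rd F (diagonal d2) * M)
    (a3 : M * rd F (diagonal d3) = rd F (diagonal d3) * M) : M = diagonal M.diag := by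
  rw [rd_diag] at a1 a2 a3
  have o1 := fun i j => off h2 a1 (i := i) (j := j)
  have o2 := fun i j => off h2 a2 (i := i) (j := j)
  have o3 := fun i j => off h2 a3 (i := i) (j := j)
  have p01 := o2 0 1 (by simp [d2]) (by simp [d2])
  have p20 := o1 2 0 (by simp [d1]) (by simp [d1])
  have p30 := o1 3 0 (by simp [d1]) (by simp [d1])
  have p40 := o1 4 0 (by simp [d1]) (by simp [d1])
  have p21 := o1 2 1 (by simp [d1]) (by simp [d1])
  have p31 := o1 3 1 (by simp [d1]) (by simp [d1])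
  have p41 := o1 4 1 (by simp [d1]) (by simp [d1])
  have p32 := o2 3 2 (by simp [d2]) (by simp [d2])
  have p42 := o2 4 2 (by simp [d2]) (by simp [d2])
  have p43 := o3 4 3 (by simp [d3]) (by simp [d3])
  ext i j
  fin_cases i <;> fin_cases j <;> simp [*]

theorem eqd {m : Fin 5 → F} {c : Matrix (Fin 5) (Fin 5) F} (h : diagonal m * c = c * diagonal m)
    (i j : Fin 5) (hc : c i j = 1) : m i = m j := by
  have e := congrFun (congrFun h i) j
  rwa [mul_diagonal, diagonal_mul, hc, mul_one, one_mul] at e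

variable {Γ : Type*} [Group Γ] [Finite Γ] {K : Type*} [Group K]

/-- a matrix group containing the integral rotations, and its central quotient -/
structure St (ρ : Γ →* Matrix (Fin 5) (Fin 5) F) (π : Γ →* K) : Prop where
  h2 : (2 : F) ≠ 0
  inj : Function.Injective ρ
  det : ∀ g, (ρ g).det = 1
  int : ∀ N : Matrix (Fin 5) (Fin 5) ℤ, Nᵀ * N = 1 → N.det = 1 → ∃ g, ρ g = rd F N
  surj : Function.Surjective π
  ker : ∀ g, π g = 1 → g ∈ center Γ

variable {ρ : Γ →* Matrix (Fin 5) (Fin 5) F} {π : Γ →* K}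

theorem St.gens (h : St ρ π) : (∃ g, ρ g = rd F (diagonal d1)) ∧ (∃ g, ρ g = rd F (diagonal d2)) ∧
    (∃ g, ρ g = rd F (diagonal d3)) ∧ (∃ g, ρ g = rd F c4) ∧ ∃ g, ρ g = rd F c5 :=
  ⟨h.int _ (by decide +kernel) (by decide +kernel), h.int _ (by decide +kernel) (by decide +kernel),
    h.int _ (by decide +kernel) (by decide +kernel), h.int _ (by decide +kernel) (by decide +kernel),
    h.int _ (by decide +kernel) (by decide +kernel)⟩

theorem St.five (h : St ρ π) {k : Γ} (hk : π k = 1) : k ^ 5 = 1 := by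
  obtain ⟨⟨g1, e1⟩, ⟨g2, e2⟩, ⟨g3, e3⟩, -, g5, e5⟩ := h.gens
  have c : ∀ g, ρ k * ρ g = ρ g * ρ k := fun g => by
    rw [← map_mul, ← map_mul, mem_center_iff.1 (h.ker k hk) g]
  have hd := diag_of h.h2 (e1 ▸ c g1) (e2 ▸ c g2) (e3 ▸ c g3)
  have c' := c g5
  rw [e5, hd] at c'
  have q1 := eqd c' 1 0 (by simp [c5])
  have q2 := eqd c' 2 1 (by simp [c5])
  have q3 := eqd c' 3 2 (by simp [c5])
  have q4 := eqd c' 4 3 (by simp [c5])
  have dt := h.det k
  rw [hd, det_diagonal, Fin.prod_univ_five, q4, q3, q2, q1] at dt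
  apply h.inj
  rw [map_pow, map_one, hd, diagonal_pow, ← diagonal_one]
  congr 1
  ext i
  have : (ρ k).diag i = (ρ k).diag 0 := by
    fin_cases i
    · rfl
    · exact q1
    · exact q2.trans q1
    · exact q3.trans (q2.trans q1)
    · exact q4.trans (q3.trans (q2.trans q1))
  rw [Pi.pow_apply, this, ← dt]; ring

theorem St.lift (h : St ρ π) {z : K} (hz : z * z = 1) : ∃ g, π g = z ∧ g * g = 1 := by
  obtain ⟨g, rfl⟩ := h.surj z
  refine ⟨g ^ 5, ?_, ?_⟩
  · rw [map_pow, show (π g) ^ 5 = π g * π g * (π g * π g) * π g by simp [pow_succ, mul_assoc], hz]; simp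
  · rw [← h.five (k := g * g) (by rw [map_mul, hz]), (Commute.refl g).mul_pow]

theorem St.uniq (h : St ρ π) {g g' : Γ} (a : g * g = 1) (b : g' * g' = 1) (e : π g = π g') : g = g' := by
  have k1 : π (g⁻¹ * g') = 1 := by rw [map_mul, map_inv, e, inv_mul_cancel]
  have c := mem_center_iff.1 (h.ker _ k1)
  have k5 := h.five k1
  generalize hk : g⁻¹ * g' = k at c k5
  obtain rfl : g' = g * k := by rw [← hk]; group
  have k2 : k ^ 2 = 1 := by
    rw [show g * k * (g * k) = g * (k * g) * k by group, ← c g,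
      show g * (g * k) * k = g * g * k ^ 2 by simp [pow_two, mul_assoc], a, one_mul] at b
    exact b
  rw [show k ^ 5 = k ^ 2 * k ^ 2 * k by group, k2] at k5
  simp only [one_mul] at k5
  rw [k5, mul_one]

/-- the diagonal involutions -/
def dg (ρ : Γ →* Matrix (Fin 5) (Fin 5) F) (inj : Function.Injective ρ) : Subgroup Γ where
  carrier := {g | ∃ d, ρ g = diagonal d ∧ ∀ i, d i * d i = 1}
  one_mem' := ⟨fun _ => 1, by simp, by simp⟩
  mul_mem' := by
    rintro g k ⟨d, e, hd⟩ ⟨d', e', hd'⟩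
    refine ⟨fun i => d i * d' i, by rw [map_mul, e, e', diagonal_mul_diagonal], fun i => ?_⟩
    linear_combination (d' i * d' i) * hd i + hd' i
  inv_mem' := by
    rintro g ⟨d, e, hd⟩
    have : g * g = 1 := inj (by
      rw [map_mul, e, diagonal_mul_diagonal, map_one, ← diagonal_one]; congr 1; ext i; exact hd i)
    exact ⟨d, by rw [inv_eq_of_mul_eq_one_left this, e], hd⟩

theorem St.exists_R (h : St ρ π) : ∃ R : Subgroup Γ, IsPGroup 2 R ∧ ∀ g : Γ, (∀ r ∈ R, g * r = r * g) →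
    g * g = 1 → g ≠ 1 → (1 + ρ g).rank ≤ 1 := by
  obtain ⟨⟨g1, e1⟩, ⟨g2, e2⟩, ⟨g3, e3⟩, ⟨c, ec⟩, -⟩ := h.gens
  have hA : IsPGroup 2 (dg ρ h.inj) := isPGroup_iff_mem.2 fun g ⟨d, e, hd⟩ => ⟨1, h.inj (by
    rw [pow_one, pow_two, map_mul, e, diagonal_mul_diagonal, map_one, ← diagonal_one]
    congr 1; ext i; exact hd i)⟩
  have hc : IsPGroup 2 (zpowers c) := isPGroup_zpowers_of_pow (k := 2) (h.inj (by
    rw [map_pow, map_one, ec]
    have : c4 ^ 2 ^ 2 = 1 := by decide +kernel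
    have e := congrArg (Int.castRingHom F).mapMatrix this
    rwa [map_pow, map_one] at e))
  have hn : c ∈ normalizer (dg ρ h.inj : Set Γ) := mem_normalizer_of_forall (by
    rintro g ⟨d, e, hd⟩
    refine ⟨![d 3, d 0, d 1, d 2, d 4], ?_, fun i => by fin_cases i <;> simp [hd]⟩
    have : ρ c * diagonal d = diagonal ![d 3, d 0, d 1, d 2, d 4] * ρ c := by
      rw [ec]; ext i j
      rw [mul_diagonal, diagonal_mul]
      fin_cases i <;> fin_cases j <;> simp [c4]
    rw [map_mul, map_mul, e, this, mul_assoc, ← map_mul, mul_inv_cancel, map_one, mul_one])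
  refine ⟨dg ρ h.inj ⊔ zpowers c, hA.to_sup_of_normal_left' hc (zpowers_le.2 hn), fun g hg g2' g1' => ?_⟩
  have cm : ∀ r ∈ dg ρ h.inj ⊔ zpowers c, ρ g * ρ r = ρ r * ρ g := fun r hr => by
    rw [← map_mul, ← map_mul, hg r hr]
  have m : ∀ {k : Γ} {d : Fin 5 → ℤ}, ρ k = rd F (diagonal d) → (∀ i, d i * d i = 1) →
      k ∈ dg ρ h.inj ⊔ zpowers c := fun {k d} e hd =>
    mem_sup_left ⟨_, e.trans (rd_diag d), fun i => by rw [← Int.cast_mul, hd, Int.cast_one]⟩
  have hd := diag_of h.h2 (e1 ▸ cm g1 (m e1 (by decide))) (e2 ▸ cm g2 (m e2 (by decide)))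
    (e3 ▸ cm g3 (m e3 (by decide)))
  have c' := cm c (mem_sup_right (mem_zpowers c))
  rw [ec, hd] at c'
  have q1 := eqd c' 1 0 (by simp [c4])
  have q2 := eqd c' 2 1 (by simp [c4])
  have q3 := eqd c' 3 2 (by simp [c4])
  have dt := h.det g
  rw [hd, det_diagonal, Fin.prod_univ_five, q3, q2, q1] at dt
  have sq : (ρ g).diag 0 * (ρ g).diag 0 = 1 := by
    have := congrArg ρ g2'
    rw [map_mul, map_one, hd, diagonal_mul_diagonal] at this
    simpa using congrFun (congrFun this 0) 0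
  generalize (ρ g).diag = m at hd q1 q2 q3 dt sq
  have q4 : m 4 = 1 := by linear_combination dt - (m 0 * m 0 + 1) * m 4 * sq
  rcases mul_self_eq_one_iff.1 sq with e | e
  · refine absurd (h.inj ?_) g1'
    rw [hd, map_one, ← diagonal_one]
    congr 1; ext i
    fin_cases i <;> simp [*]
  · have : 1 + ρ g = vecMulVec ![0, 0, 0, 0, 2] ![0, 0, 0, 0, 1] := by
      rw [hd]; ext i j
      fin_cases i <;> fin_cases j <;> simp [vecMulVec_apply, *] <;> norm_num
    rw [this]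
    exact rank_vecMulVec_le _ _

theorem St.rk [Finite K] (h : St ρ π) {z : K} (h1 : z ≠ 1) (hc : Odd (centralizer {z}).index)
    {g : Γ} (g2 : g * g = 1) (e : IsConj z (π g)) : (1 + ρ g).rank ≤ 1 := by
  obtain ⟨R, hR, H⟩ := h.exists_R
  obtain ⟨T, hT⟩ := exists_isSylowIn 2 (centralizer ({z} : Set K))
  have hT' : IsSylowIn 2 T ⊤ := hT.trans le_top (by
    rw [relIndex_top_right]; exact Nat.two_dvd_ne_zero.2 (Nat.odd_iff.1 hc))
  obtain ⟨u, -, hu⟩ := hT'.exists_cj_le (hR.map π) le_top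
  obtain ⟨w, hw⟩ := isConj_iff.1 e.symm
  obtain ⟨v, hv⟩ := h.surj (u⁻¹ * w)
  have a2 : v * g * v⁻¹ * (v * g * v⁻¹) = 1 := by
    rw [show v * g * v⁻¹ * (v * g * v⁻¹) = v * (g * g) * v⁻¹ by group, g2]; simp
  have pv : π (v * g * v⁻¹) = u⁻¹ * z * u := by
    rw [map_mul, map_mul, map_inv, hv, ← hw]; group
  have := H (v * g * v⁻¹) (fun r hr => ?_) a2 fun e1 => h1 ?_
  · have e2 : 1 + ρ g = ρ v⁻¹ * (1 + ρ (v * g * v⁻¹)) * ρ v := by
      rw [mul_add, add_mul, mul_one, ← map_mul, ← map_mul, ← map_mul, inv_mul_cancel, map_one]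
      congr 2; group
    rw [e2]
    exact (rank_mul_le_left _ _).trans ((rank_mul_le_right _ _).trans this)
  · have c := mem_centralizer_singleton_iff.1 (hT.le (cj_le_iff.1 hu _ (mem_map_of_mem π hr)))
    generalize v * g * v⁻¹ = k at a2 pv
    have : r * k * r⁻¹ = k := h.uniq (by
      rw [show r * k * r⁻¹ * (r * k * r⁻¹) = r * (k * k) * r⁻¹ by group, a2]; simp) a2 (by
      rw [map_mul, map_mul, map_inv, pv]
      calc π r * (u⁻¹ * z * u) * (π r)⁻¹ = u⁻¹ * (u * π r * u⁻¹ * z) * u * (π r)⁻¹ := by group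
        _ = _ := by rw [c]; group)
    rw [← mul_inv_eq_iff_eq_mul.1 this]
  · rw [e1, map_one] at pv
    rw [show z = u * (u⁻¹ * z * u) * u⁻¹ by group, ← pv]; simp

theorem St.no [Finite K] (h : St ρ π) {z e : K} (hz : orderOf z = 2) (hc : Odd (centralizer {z}).index)
    (ze : z * e = e * z) (c1 : IsConj z e) (c2 : IsConj z (z * e)) : False := by
  have z2 : z * z = 1 := by rw [← pow_two, ← hz, pow_orderOf_eq_one]
  have z1 : z ≠ 1 := fun e => by simp [e] at hz
  have e2 : e * e = 1 := by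
    obtain ⟨w, rfl⟩ := isConj_iff.1 c1
    rw [show w * z * w⁻¹ * (w * z * w⁻¹) = w * (z * z) * w⁻¹ by group, z2]; simp
  obtain ⟨a, rfl, a2⟩ := h.lift z2
  obtain ⟨b, rfl, b2⟩ := h.lift e2
  have ab : a * b * a⁻¹ = b := h.uniq (by
    rw [show a * b * a⁻¹ * (a * b * a⁻¹) = a * (b * b) * a⁻¹ by group, b2]; simp) b2 (by
    rw [map_mul, map_mul, map_inv, ze]; group)
  have r1 := h.rk z1 hc a2 (IsConj.refl _)
  have r2 := h.rk z1 hc b2 c1
  have r3 := h.rk z1 hc (g := a * b) (by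
    rw [show a * b * (a * b) = a * b * a⁻¹ * (a * a) * b by group, ab, a2, mul_one, b2]) (by rwa [map_mul])
  have e3 : diagonal (fun _ => (2 : F)) = (1 + ρ (a * b)) + ((1 + ρ a) + (-ρ a) * (1 + ρ b)) := by
    rw [map_mul, ← smul_one_eq_diagonal, two_smul]; noncomm_ring
  have r4 := rank_of_det_ne_zero (A := diagonal (fun _ : Fin 5 => (2 : F))) (by simp [h.h2])
  have r5 := rank_add (1 + ρ (a * b)) ((1 + ρ a) + (-ρ a) * (1 + ρ b))
  have r6 := rank_add (1 + ρ a) ((-ρ a) * (1 + ρ b))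
  have r7 := rank_mul_le_right (-ρ a) (1 + ρ b)
  rw [← e3, r4, Fintype.card_fin] at r5
  omega

/-- the element of `SL₅(F)` given by an integer matrix -/
def mk (F : Type*) [Field F] (N : Matrix (Fin 5) (Fin 5) ℤ) (h : N.det = 1) : SL(5, F) :=
  ⟨rd F N, by rw [← Int.cast_det, h, Int.cast_one]⟩

end K5

open K5 in
/-- `L₅(q)` and `U₅(q)`, `q` odd, have no four-group of 2-central involutions. -/
theorem no5 {K : Type*} [Group K] [Finite K]
    (hK : GHE.IL 5 (fun q => q % 4 = 3) K ∨ GHE.IU 5 (fun q => q % 4 = 1) K) {z e : K}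
    (hz : orderOf z = 2) (hc : Odd (centralizer {z}).index) (ze : z * e = e * z)
    (c1 : IsConj z e) (c2 : IsConj z (z * e)) : False := by
  rcases hK with ⟨F, _, _, hq, ⟨φ⟩⟩ | ⟨F, _, _, q, hF, hq, ⟨φ⟩⟩
  · refine St.no (ρ := slToMat 5 F) (π := φ.symm.toMonoidHom.comp (QuotientGroup.mk' _))
      ⟨GHA.two_ne_zero_of_odd (Nat.odd_iff.2 (by omega)), fun a b e => Subtype.ext e, fun g => g.2,
        fun N _ hN => ⟨mk F N hN, rfl⟩, φ.symm.surjective.comp (QuotientGroup.mk'_surjective _),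
        fun g e => ?_⟩ hz hc ze c1 c2
    exact (QuotientGroup.eq_one_iff g).1 ((map_eq_one_iff _ φ.symm.injective).1 e)
  · refine St.no (ρ := (slToMat 5 F).comp (SU 5 F q).subtype)
      (π := φ.symm.toMonoidHom.comp (QuotientGroup.mk' _))
      ⟨GHA.two_ne_zero_of_odd (hF ▸ (Nat.odd_iff.2 (by omega) : Odd q).pow),
        fun a b e => Subtype.ext (Subtype.ext e), fun g => g.1.2,
        fun N h1 hN => ⟨⟨mk F N hN, (Unitary.mem_SU_iff hF _).2 ?_⟩, rfl⟩,
        φ.symm.surjective.comp (QuotientGroup.mk'_surjective _), fun g e => ?_⟩ hz hc ze c1 c2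
    · have e1 : (rd F N).map (Unitary.conj hF) = rd F N := by
        ext i j; exact map_intCast (Unitary.conj hF) _
      have e2 := congrArg (Int.castRingHom F).mapMatrix h1
      rw [map_mul, map_one] at e2
      exact (congrArg ((rd F N)ᵀ * ·) e1).trans e2
    · exact (QuotientGroup.eq_one_iff g).1 ((map_eq_one_iff _ φ.symm.injective).1 e)

end CfsgLib.L3S
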