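import Mathlib
import Cfsg.Agent.Lib.L3S.Defs

/-! Standard subgroups `L₃(3)` (plans/L3S.md, package STEP). -/

set_option autoImplicit false
set_option linter.unusedSectionVars false

namespace CfsgLib.L3S

open Subgroup Cfsg CfsgLib.Tech CfsgLib.L33

variable {G : Type*} [Group G] [Finite G] {X L O : Subgroup G} {t : G} {D : Fr G}

theorem st_fr (D : Fr0 G) {a : G} (ha : a ∈ normalizer (D.s1S : Set G)) (hat : a * D.t * a⁻¹ ≠ D.t) :
    ∃ D' : Fr G, D'.t = D.t := by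
  have h1 := D.s1_move ha hat
  have hR := D.s1_small ha h1
  have hτL : ∀ u ∈ D.s1S, u * D.x * u⁻¹ = D.x ^ 5 → u ∉ D.L := fun u hu h5 hL => by
    rcases D.s1_act (mem_sup_right (D.SL u hu hL)) with h | h
    · rw [h5, ← pow_one D.x, ← pow_mul, D.s1_xp] at h
      omega
    · rw [h5, D.s1_xp] at h
      omega
  have htS := D.s1_RS D.tR
  refine ⟨⟨D.t, D.τ, D.x, D.e, D.L, D.rel, D.s1_ττ ha h1, ?_, D.LH, D.Ln, D.xL, D.eL, D.s1_tL, fun hτ => ⟨?_, ?_⟩,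
    fun h hh => ?_, D.θ0, D.ρ0, isConj_iff.2 ⟨a, h1⟩⟩, rfl⟩
  · have : closure {D.t, D.τ, D.x, D.e} = D.R ⊔ closure {D.τ, D.x, D.e} := by
      rw [le_antisymm hR (zpowers_le.2 D.tR), zpowers_eq_closure, ← Subgroup.closure_union]; rfl
    rw [this]; exact D.syl
  · exact hτL _ D.s1_τS (D.rel.τx.resolve_left hτ)
  · refine hτL _ (mul_mem htS D.s1_τS) ?_
    rw [show D.t * D.τ * D.x * (D.t * D.τ)⁻¹ = D.t * (D.τ * D.x * D.τ⁻¹) * D.t⁻¹ by group, D.rel.τx.resolve_left hτ,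
      ((show Commute D.t D.x from D.rel.tx).pow_right 5).eq, mul_inv_cancel_right]
  · obtain ⟨s, hs, hl⟩ := D.HL h hh
    have key : ∀ k ∈ D.s1S, k * s ∈ D.s1D → k * h ∈ D.L := fun k hk hks => by
      rw [show k * h = k * (h * s⁻¹) * k⁻¹ * (k * s) by group]
      exact mul_mem (D.Ln k (D.syl.le hk) _ hl) (D.s1_DL hks)
    rcases D.s1_memS.1 hs with h2 | h2 <;> rcases D.s1_memM' hR h2 with h3 | h3
    · exact .inl (by simpa using key 1 (one_mem _) (by rwa [one_mul]))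
    · exact .inr (.inl (key _ htS h3))
    · exact .inr (.inr (.inl (key _ D.s1_τS h3)))
    · exact .inr (.inr (.inr (key _ (mul_mem htS D.s1_τS) (by rwa [mul_assoc]))))

section Small

variable (D : Fr0 G) (hN : normalizer (D.s1S : Set G) ≤ centralizer {D.t})
include hN

theorem st_nosq {s r : G} (hs : IsConj D.t s) (hz : IsConj s (D.x ^ 4 * s)) (hr : r ∈ D.s1S) (hrs : r * s = s * r)
    (hrr : r * r = D.x ^ 4) : False := by
  obtain ⟨b, hb⟩ := isConj_iff.1 hs.symm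
  obtain ⟨h, hh, hle⟩ := D.s1_syl.exists_cj_le (isPGroup_cj b (D.syl.pgroup.to_inf_left (K := centralizer {s})))
    (by rw [← hb, ← cj_centralizer_singleton]; exact cj_mono b inf_le_right)
  have hg : h * b * s * (h * b)⁻¹ = D.t := by
    rw [show h * b * s * (h * b)⁻¹ = h * (b * s * b⁻¹) * h⁻¹ by group, hb, mem_centralizer_singleton_iff.1 hh,
      mul_inv_cancel_right]
  rw [← cj_mul] at hle
  have h6 := hle (conj_mem_cj.2 (mem_inf.2 ⟨hr, mem_centralizer_singleton_iff.2 hrs⟩))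
  generalize h * b = g at hg h6
  have h7 : g * D.x ^ 4 * g⁻¹ ∈ D.s1M := by
    rw [← hrr, ← conj_mul]
    by_cases h7 : g * r * g⁻¹ ∈ D.s1M
    · exact mul_mem h7 h7
    · exact D.s1_out2 h6 h6 h7 h7
  have := D.s1_star hN (mul_mem h7 (mem_sup_left D.tR))
    ((hs.trans hz).trans (isConj_iff.2 ⟨g, by rw [← hg, conj_mul]⟩))
  exact D.s1_z1 (by simpa using this)

theorem st_inv {s : G} (hs : IsConj D.t s) (hst : s ≠ D.t) (hS : s ∈ D.s1S) : s * D.x * s⁻¹ = D.x ^ 7 := by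
  refine (D.s1_out hS fun h => hst (D.s1_star hN h hs)).2.resolve_left fun h => ?_
  refine st_nosq D hN hs (isConj_iff.2 ⟨D.x, ?_⟩) (D.s1_DS (pow_mem D.s1_xD 2)) ?_ (by rw [← pow_add])
  · calc D.x * s * D.x⁻¹ = D.x * (s * D.x * s⁻¹)⁻¹ * s := by group
      _ = (D.x ^ 4)⁻¹ * s := by rw [h]; group
      _ = _ := by rw [inv_eq_of_mul_eq_one_right D.s1_zz]
  · rw [eq_comm, ← mul_inv_eq_iff_eq_mul, ← conj_pow, h, ← pow_mul, D.s1_xp]

theorem st_small {s : G} (hs : IsConj D.t s) (hst : s ≠ D.t) (hS : s ∈ D.s1S) : False := by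
  haveI : Fact (Nat.Prime 2) := ⟨Nat.prime_two⟩
  have h := st_inv D hN hs hst hS
  have hx : ∀ k : ℕ, s * D.x ^ k * s⁻¹ = D.x ^ (7 * k) := fun k => by rw [← conj_pow, h, ← pow_mul]
  have hz : IsConj s (D.x ^ 4 * s) := isConj_iff.2 ⟨D.x ^ 2, by
    calc D.x ^ 2 * s * (D.x ^ 2)⁻¹ = D.x ^ 2 * ((s * D.x * s⁻¹) ^ 2)⁻¹ * s := by rw [conj_pow]; group
      _ = (D.x ^ 8)⁻¹ * (D.x ^ 4)⁻¹ * s := by rw [h]; group
      _ = _ := by rw [inv_eq_of_mul_eq_one_right D.s1_zz, D.rel.x8, inv_one, one_mul]⟩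
  have sq : ∀ k : ℕ, D.x ^ k * D.e * (D.x ^ k * D.e) = D.x ^ (k + 3 * k) := fun k => by
    rw [mul_assoc, ← mul_assoc D.e, D.s1_ex', mul_assoc, D.rel.ee, mul_one, ← pow_add]
  have ac : ∀ k m : ℕ, D.x ^ k * D.e * D.x ^ m * (D.x ^ k * D.e)⁻¹ = D.x ^ (3 * m) := fun k m => by
    rw [mul_assoc _ D.e, D.s1_ex']; group
  have ee : s * D.e * s⁻¹ * (s * D.e * s⁻¹) = 1 := by rw [conj_mul, D.rel.ee]; group
  obtain ⟨k, hk | hk⟩ := D.s1_memD (D.s1_nD hS D.s1_eD)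
  · have h1 : s * D.e * s⁻¹ * (s * D.x ^ 1 * s⁻¹) * (s * D.e * s⁻¹)⁻¹ = s * D.x ^ (3 * 1) * s⁻¹ := by
      rw [← D.s1_ex]; group
    rw [hk, hx, hx, (Commute.pow_pow_self _ _ _).eq, mul_inv_cancel_right, D.s1_xp] at h1
    omega
  rw [hk, sq, ← pow_zero D.x, D.s1_xp] at ee
  have hr : D.x ^ (k / 2) * D.e ∈ D.s1D := mul_mem (pow_mem D.s1_xD _) D.s1_eD
  have hrs : D.x ^ (k / 2) * D.e * s = s * (D.x ^ (k / 2) * D.e) := by
    rw [eq_comm, ← mul_inv_eq_iff_eq_mul, ← conj_mul, hx, hk, ← mul_assoc, ← pow_add, mul_left_inj, D.s1_xp]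
    omega
  by_cases h4 : k % 4 = 2
  · exact st_nosq D hN hs hz (D.s1_DS hr) hrs (by rw [sq, D.s1_xp]; omega)
  have ne : ∀ j a : ℕ, D.x ^ j * D.e ≠ D.x ^ a := fun j a e => by
    have h1 := ac j 1
    rw [e, (Commute.pow_pow_self _ _ _).eq, mul_inv_cancel_right, D.s1_xp] at h1
    omega
  obtain ⟨l, hL, hl⟩ := D.s1_conj_z hr (by rw [sq, ← pow_zero D.x, D.s1_xp]; omega) (pow_zero D.x ▸ ne _ 0)
  have hlt := D.LH hL
  obtain ⟨c, hc, hle⟩ := (D.s1_syl.of_le (K := centralizer {D.t} ⊓ centralizer {D.x ^ 4})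
    (fun v hv => mem_inf.2 ⟨D.syl.le hv, mem_centralizer_singleton_iff.2 (D.s1_zc hv)⟩) inf_le_left).exists_cj_le
    (isPGroup_cj l⁻¹ (D.syl.pgroup.to_inf_left (K := centralizer {D.x ^ (k / 2) * D.e})))
    (cj_le_iff.2 fun v hv => mem_inf.2 ⟨mul_mem (mul_mem (inv_mem hlt) (D.syl.le hv.1)) (inv_mem (inv_mem hlt)), by
      have := (conj_mem_cj (g := l⁻¹)).2 hv.2
      rwa [cj_centralizer_singleton, ← hl, show l⁻¹ * (l * D.x ^ 4 * l⁻¹) * l⁻¹⁻¹ = D.x ^ 4 by group] at this⟩)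
  rw [← cj_mul] at hle
  have hg := mul_mem (mem_inf.1 hc).1 (inv_mem hlt)
  have gz : c * l⁻¹ * D.x ^ 4 * (c * l⁻¹)⁻¹ ≠ D.x ^ 4 := fun e => ne (k / 2) 4 (by
    have h1 := mem_centralizer_singleton_iff.1 hc.2
    calc _ = l * c⁻¹ * (c * D.x ^ 4 * c⁻¹) * c * l⁻¹ := by rw [← hl]; group
      _ = l * c⁻¹ * (c * l⁻¹ * D.x ^ 4 * (c * l⁻¹)⁻¹) * c * l⁻¹ := by rw [e, h1, mul_inv_cancel_right]
      _ = _ := by group)
  generalize c * l⁻¹ = g at hle hg gz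
  have gt : g * D.t * g⁻¹ = D.t := by rw [mem_centralizer_singleton_iff.1 hg, mul_inv_cancel_right]
  have inj : ∀ v, g * v * g⁻¹ = D.t → v = D.t := fun v e => mul_left_cancel (mul_right_cancel (e.trans gt.symm))
  have hzS := D.s1_DS D.s1_zD
  have s1 := hle (conj_mem_cj.2 (mem_inf.2 ⟨hS, mem_centralizer_singleton_iff.2 hrs.symm⟩))
  have w1 := hle (conj_mem_cj.2 (mem_inf.2 ⟨hzS, mem_centralizer_singleton_iff.2 (D.s1_zc (D.s1_DS hr)).symm⟩))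
  have i1 := st_inv D hN (hs.trans (isConj_iff.2 ⟨g, rfl⟩)) (fun e => hst (inj _ e)) s1
  have i2 := st_inv D hN ((hs.trans hz).trans (isConj_iff.2 ⟨g, rfl⟩)) (fun e => hst (D.s1_star hN (by
      rw [show s = (D.x ^ 4)⁻¹ * D.t by rw [← inj _ e]; group]
      exact mul_mem (inv_mem (mem_sup_right D.s1_zD)) (mem_sup_left D.tR)) hs))
    (by rw [← conj_mul]; exact mul_mem w1 s1)
  rw [show g * (D.x ^ 4 * s) * g⁻¹ * D.x * (g * (D.x ^ 4 * s) * g⁻¹)⁻¹ = g * D.x ^ 4 * g⁻¹ *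
    (g * s * g⁻¹ * D.x * (g * s * g⁻¹)⁻¹) * (g * D.x ^ 4 * g⁻¹)⁻¹ by group, i1] at i2
  have w2 : g * D.x ^ 4 * g⁻¹ * (g * D.x ^ 4 * g⁻¹) = 1 := by rw [conj_mul, D.s1_zz]; group
  have w3 : g * D.x ^ 4 * g⁻¹ ≠ 1 := by simpa using D.s1_z1
  obtain ⟨a, ha | ha⟩ := D.s1_memD (D.SL _ w1 (D.Ln g hg _ (D.s1_DL D.s1_zD)))
  · rw [ha] at w2 w3 gz
    rw [← pow_add, ← pow_zero D.x, D.s1_xp] at w2
    rw [Ne, ← pow_zero D.x, D.s1_xp] at w3
    rw [Ne, D.s1_xp] at gz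
    omega
  · rw [ha, ac, D.s1_xp] at i2
    omega

end Small

/-- `Fr0.step1` with the link to `t` and without the small case -/
theorem exists_fr (D : Fr0 G) (h : ∃ s, IsConj D.t s ∧ s ≠ D.t ∧ s * D.t = D.t * s) : ∃ D' : Fr G, D'.t = D.t := by
  haveI : Fact (Nat.Prime 2) := ⟨Nat.prime_two⟩
  by_cases hN : normalizer (D.s1S : Set G) ≤ centralizer {D.t}
  · exfalso
    obtain ⟨s, hs, hst, hc⟩ := h
    have h2 : s * s = 1 := by
      obtain ⟨g, rfl⟩ := isConj_iff.1 hs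
      rw [conj_mul, D.rel.tt]; group
    obtain ⟨g, hg, hS⟩ := D.s1_syl.exists_conj_mem (mem_centralizer_singleton_iff.2 hc) (isPGroup_two_zpowers h2)
    refine st_small D hN (hs.trans (isConj_iff.2 ⟨g, rfl⟩)) (fun h1 => hst ?_) hS
    rw [mul_inv_eq_iff_eq_mul, ← mem_centralizer_singleton_iff.1 hg] at h1
    exact mul_left_cancel h1
  · obtain ⟨a, ha, hat⟩ := SetLike.not_le_iff_exists.1 hN
    exact st_fr D ha fun h1 => hat (mem_centralizer_singleton_iff.2 (mul_inv_eq_iff_eq_mul.1 h1))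

section Act

open Fr Fr.Nrm Fr.Al1

theorem st_th0 (D : Fr G) : ∃ D' : Fr G, D'.t = D.t ∧ ∃ θ, D'.Th0 θ := by
  obtain ⟨θ, hL, (h1 : θ * D.z * θ⁻¹ = D.e), (h2 : θ * D.e * θ⁻¹ = D.e * D.z)⟩ := D.θ0
  have h0 : θ * D.t = D.t * θ := mem_centralizer_singleton_iff.1 (D.LH hL)
  obtain ⟨n, hn, hA⟩ := D.sylA.frattini (g := θ) (norm_cent fun c hc => by
    have a1 := hc D.z (by simp)
    have a2 := hc D.e (by simp)
    rintro _ (rfl | rfl | rfl)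
    · rw [fix h0]; exact hc _ (by simp)
    · rwa [h1]
    · rw [h2]; exact com_mul a2 a1)
  have nz := (hn D.z (by simp)).symm
  have ne := (hn D.e (by simp)).symm
  have g0 : n * θ * D.t = D.t * (n * θ) := com_mul (hn D.t (by simp)).symm h0
  have g1 : n * θ * D.z * (n * θ)⁻¹ = D.e := by rw [cj2, h1, fix ne]
  have g2 : n * θ * D.e * (n * θ)⁻¹ = D.e * D.z := by rw [cj2, h2, cjm, fix ne, fix nz]
  generalize n * θ = φ at hA g0 g1 g2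
  have g3 := θ_ez g1 g2
  obtain ⟨v, hv, e⟩ := conj_τ_eq hA g0
  by_cases hτ : D.τ = 1
  · exact ⟨D, rfl, φ, g0, by simp [hτ], g1, g2⟩
  have key := fix (D.cent_of_norm (mul_mem (mul_mem (mul_mem hA (f_norm D)) hA) (f_norm D))
    (com_mul (com_mul (com_mul g0 D.c_tf.symm) g0) D.c_tf.symm)
    (com (by rw [cj2, cj2, cj2, f_z, g1, f_e, g3])) (com (by rw [cj2, cj2, cj2, f_e, g3, f_z, g1])))
  rw [cj2, cj2, cj2, fix D.c_τf.symm, e, cjm D.f, fix D.c_τf.symm, cjm, e, mul_assoc D.τ, mul_eq_left] at key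
  rcases D.mem_E.1 hv with rfl | rfl | rfl | rfl
  · exact ⟨D, rfl, φ, g0, com (by rw [e, mul_one]), g1, g2⟩
  · rw [f_z, g1, D.c_ze] at key
    exact absurd key (ez1 D)
  · rw [f_e, g3] at key
    exact absurd key (ez1 D)
  · obtain ⟨D', a1, a2, a3, a4, -⟩ := D.exists_ch hτ (k := D.z) (D.mem_V.2 (by simp))
    have a5 : D'.z = D.z := by rw [Fr.z, a2]; rfl
    refine ⟨D', a1, φ, by rwa [a1], com ?_, by rwa [a5, a3], by rwa [a5, a3]⟩
    rw [a4, cjm, g1, e, ← mul_assoc, ← mul_assoc, ← D.c_τe, mul_assoc D.τ, D.ee, mul_one, D.c_τz]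

theorem st_sm {θ : G} (hθ : D.Th0 θ) (hm : D.Sm) : ∃ D' : Fr G, D'.t = D.t ∧ ∃ θ n p, D'.Act θ n p := by
  obtain ⟨n, hn, nt, nz, ne⟩ := exists_n hθ fun g hg => mem_normalizer_of_forall fun v hv => by
    have h1 := hθ.mem_E hm (conj_mem_of_mem_normalizer hg (t_A D)) (isConj_iff.2 ⟨g, rfl⟩)
    have h2 := hθ.mem_E hm (conj_mem_of_mem_normalizer hg (mul_mem (t_A D) (E_le_A D hv)))
      ((D.conj_t_mul (D.E_le_Dg hv) (D.A_sq (E_le_A D hv))).trans (isConj_iff.2 ⟨g, rfl⟩))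
    convert mul_mem (inv_mem h1) h2 using 1
    group
  have key : n * D.τ = D.τ * n → ∃ D' : Fr G, D'.t = D.t ∧ ∃ θ n p, D'.Act θ n p := fun h =>
    ⟨D, rfl, θ, n, 1, hθ, hm.1, nt, nz, h, by simp, by simp, by simp, Or.inl ⟨rfl, hm, fix ne⟩⟩
  by_cases hτ : D.τ = 1
  · exact key (by simp [hτ])
  refine (star hθ hτ hn nt nz ne).elim key fun h => ?_
  obtain ⟨D', a1, a2, a3, a4, a5, -, a6⟩ := ch_t hθ hτ
  have hm' : D'.Sm := ⟨by rw [a1, a4]; exact hm.2 hτ, fun _ => by rw [a5, a1]; exact hm.1⟩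
  exact ⟨D', a1, θ, n, 1, a6, hm'.1, by rwa [a1, a2], by rwa [a2], by rwa [a4], by simp, by simp, by simp,
    Or.inl ⟨rfl, hm', by rw [a3, fix ne]⟩⟩

end Act

/-- `Fr.exists_act` with the link to `t` -/
theorem exists_act (D : Fr G) : ∃ D' : Fr G, D'.t = D.t ∧ ∃ θ n p, D'.Act θ n p := by
  obtain ⟨D₁, e₁, θ, hθ⟩ := st_th0 D
  rw [← e₁]
  by_cases hm : D₁.Sm
  · exact st_sm hθ hm
  have hτ : D₁.τ ≠ 1 := fun e => hm ⟨fun h => D₁.conj_ne h e, fun h => absurd e h⟩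
  by_cases h1 : IsConj D₁.t D₁.τ
  · obtain ⟨D', a1, -, -, a4, a5, a6, a7⟩ := Fr.Al1.ch_t hθ hτ
    exact ⟨D', a1, θ, Fr.Al1.caseOne a7 a6 (by rw [a1, a4]; exact Fr.Al1.caseBoth hθ hτ h1) (by rwa [a5, a1])⟩
  · exact ⟨D₁, rfl, θ, Fr.Al1.caseOne hθ hτ h1 (by by_contra h; exact hm ⟨h1, fun _ => h⟩)⟩

theorem exists_tr (D : Fr G) : ∃ D' : Fr G, D'.t = D.t ∧ ∃ a p θ, D'.Tr a p θ := by
  obtain ⟨D', e, θ, n, p, h⟩ := exists_act D
  refine ⟨D', e, ?_⟩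
  rcases h.hp with ⟨-, -, hn⟩ | ⟨hτ, hp, hn | hn⟩
  · exact h.exists_tr hn
  · exact h.exists_tr hn
  · obtain ⟨a, p', C⟩ := h.exists_gc hτ hp hn
    exact C.false.elim

end CfsgLib.L3S
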